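import Cfsg.Agent.H847.Bs.Defs2

/-!
# S5733: the exact statements of the tasks (as propositions)

A task `BSxx` is done when a theorem `H847.Bs.Sxx` is proved (for the trick tasks: with the counts as hypotheses at first).
All spaces are in `Type`.
-/

set_option autoImplicit false

namespace Cfsg.Agent.H847.Bs

open Cfsg.Agent.LieClassical.OrthCore

/-! ### counts -/

/-- BS09 -/
def S09 : Prop := ∃ c : ℝ, 0 < c ∧ ∃ K₀ : ℕ, ∀ (F V : Type) [Field F] [Finite F] [AddCommGroup V] [Module F V]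
  [Module.Finite F V] (K : ℕ), K₀ ≤ K → K < Module.finrank F V →
  c / (K + 1) * (Nat.card (V ≃ₗ[F] V) : ℝ) ≤ Nat.card ↥(SG F V K (Module.finrank F V))

/-- BS10 -/
def S10 : Prop := ∃ c : ℝ, 0 < c ∧ ∃ K₀ : ℕ, ∀ (F V : Type) [Field F] [Finite F] [AddCommGroup V] [Module F V]
  [Module.Finite F V] (Φ : Frm F V) (n K : ℕ), IsSp Φ → K₀ ≤ K → Module.finrank F V = 2 * n → K < n →
  c / (K + 1) * (Nat.card Φ.Iso : ℝ) ≤ Nat.card ↥(Φ.SS K (2 * n))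

/-- BS11 -/
def S11 : Prop := ∃ c : ℝ, 0 < c ∧ ∃ K₀ : ℕ, ∀ (F V : Type) [Field F] [Finite F] [AddCommGroup V] [Module F V]
  [Module.Finite F V] (r : ℕ) (Φ : Frm F V) (n K : ℕ), IsHerm r Φ → K₀ ≤ K → Module.finrank F V = n → 2 * K < n →
  c / (K + 1) * (Nat.card Φ.Iso : ℝ) ≤ Nat.card ↥(Φ.SS K n)

/-- BS12 -/
def S12 : Prop := ∃ c : ℝ, 0 < c ∧ ∃ K₀ : ℕ, ∀ (F V : Type) [Field F] [Finite F] [AddCommGroup V] [Module F V]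
  [Module.Finite F V] (Q : QuadraticForm F V) (n K : ℕ), (frmQ Q).Nd → K₀ ≤ K → Module.finrank F V = 2 * n → K < n →
  c / (K + 1) * (Nat.card (frmQ Q).Iso : ℝ) ≤ Nat.card {x : V ≃ₗ[F] V // x ∈ (frmQ Q).SS K (2 * n) ∧ x ∈ nQ Q}

/-! ### bounded rank: the bases -/

/-- BS40a -/
def S40a : Prop := ∃ ε : ℝ, 0 < ε ∧ ∀ (F W : Type) [Field F] [Finite F] [AddCommGroup W] [Module F W]
  [Module.Finite F W], Module.finrank F W = 3 → RB ε (slV F W)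

/-- BS40a' -/
def S40s : Prop := ∃ ε : ℝ, 0 < ε ∧ ∀ (F W : Type) [Field F] [Finite F] [AddCommGroup W] [Module F W]
  [Module.Finite F W] (Φ : Frm F W), IsSp Φ → Module.finrank F W = 4 → RB ε Φ.Iso

/-- BS40b -/
def S40u : Prop := ∃ ε : ℝ, 0 < ε ∧ ∀ (F W : Type) [Field F] [Finite F] [AddCommGroup W] [Module F W]
  [Module.Finite F W] (r : ℕ) (Φ : Frm F W), IsHerm r Φ → Module.finrank F W = 4 → RB ε ↥(Φ.Iso ⊓ slV F W)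

/-- BS40c -/
def S40o : Prop := ∃ ε : ℝ, 0 < ε ∧ ∀ (F W : Type) [Field F] [Finite F] [AddCommGroup W] [Module F W]
  [Module.Finite F W] (Q : QuadraticForm F W), (frmQ Q).Nd →
  (Module.finrank F W = 8 ∨ Module.finrank F W = 9) → RB ε (E Q)

/-! ### trick -/

/-- BS20 -/
def S20 : Prop := S40a → ∃ c : ℝ, 0 < c ∧ ∃ n₀ : ℕ, ∀ (F V : Type) [Field F] [Finite F] [AddCommGroup V] [Module F V]
  [Module.Finite F V], n₀ ≤ Module.finrank F V → ∀ H : Subgroup (V ≃ₗ[F] V), H ≤ slV F V →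
  (ndV (slV F V) H : ℝ) < c * Nat.card (slV F V) →
  ∃ W U : Submodule F V, IsCompl W U ∧ Module.finrank F W = 3 ∧ HasOn (slV F V) H W U

/-- BS21 -/
def S21 : Prop := S40s → ∃ c : ℝ, 0 < c ∧ ∃ n₀ : ℕ, ∀ (F V : Type) [Field F] [Finite F] [AddCommGroup V] [Module F V]
  [Module.Finite F V] (Φ : Frm F V), IsSp Φ → n₀ ≤ Module.finrank F V → ∀ H : Subgroup (V ≃ₗ[F] V), H ≤ Φ.Iso →
  (ndV Φ.Iso H : ℝ) < c * Nat.card Φ.Iso →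
  ∃ W U : Submodule F V, Φ.Dec W U ∧ Module.finrank F W = 4 ∧ HasOn Φ.Iso H W U

/-- BS22 -/
def S22 : Prop := S40u → ∃ c : ℝ, 0 < c ∧ ∃ n₀ : ℕ, ∀ (F V : Type) [Field F] [Finite F] [AddCommGroup V] [Module F V]
  [Module.Finite F V] (r : ℕ) (Φ : Frm F V), IsHerm r Φ → n₀ ≤ Module.finrank F V →
  ∀ H : Subgroup (V ≃ₗ[F] V), H ≤ Φ.Iso ⊓ slV F V →
  (ndV (Φ.Iso ⊓ slV F V) H : ℝ) < c * Nat.card ↥(Φ.Iso ⊓ slV F V) →
  ∃ W U : Submodule F V, Φ.Dec W U ∧ Module.finrank F W = 4 ∧ HasOn (Φ.Iso ⊓ slV F V) H W U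

/-- BS23 -/
def S23 : Prop := S40o → ∃ c : ℝ, 0 < c ∧ ∃ n₀ : ℕ, ∀ (F V : Type) [Field F] [Finite F] [AddCommGroup V] [Module F V]
  [Module.Finite F V] (Q : QuadraticForm F V), (frmQ Q).Nd → n₀ ≤ Module.finrank F V →
  ∀ H : Subgroup (V ≃ₗ[F] V), H ≤ E Q → (ndV (E Q) H : ℝ) < c * Nat.card (E Q) →
  ∃ W : Submodule F V, (frmQ Q).NdOn W ∧ (Module.finrank F W = 8 ∨ Module.finrank F W = 9) ∧
    ∀ u ∈ W, ∀ w ∈ W, Q u = 0 → QuadraticMap.polar Q u w = 0 → H883.Root.Has Q H u w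

/-! ### reducible subgroups -/

/-- BS24 -/
def S24 : Prop := ∃ c : ℝ, 0 < c ∧ ∃ n₀ : ℕ, ∀ (F V : Type) [Field F] [Finite F] [AddCommGroup V] [Module F V]
  [Module.Finite F V], n₀ ≤ Module.finrank F V → ∀ k : ℕ, 1 ≤ k → k < Module.finrank F V →
  c * (Nat.card (slV F V) : ℝ) ≤ Nat.card {x : V ≃ₗ[F] V // x ∈ slV F V ∧
    ∀ Y : Submodule F V, Inv x Y → Module.finrank F Y ≠ k}

/-- the elements of `G` which leave no `G`-image of `Y` invariant -/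
noncomputable def noInv {F V : Type} [Field F] [AddCommGroup V] [Module F V] (G : Subgroup (V ≃ₗ[F] V))
    (Y : Submodule F V) : ℕ :=
  Nat.card {x : V ≃ₗ[F] V // x ∈ G ∧ ∀ g ∈ G, ¬ Inv x (Y.map (g : V →ₗ[F] V))}

/-- BS25 -/
def S25 : Prop := ∃ c : ℝ, 0 < c ∧ ∃ n₀ : ℕ, ∀ (F V : Type) [Field F] [Finite F] [AddCommGroup V] [Module F V]
  [Module.Finite F V] (Φ : Frm F V), IsSp Φ → n₀ ≤ Module.finrank F V → ∀ Y : Submodule F V, Y ≠ ⊥ → Φ.TI Y →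
  c * (Nat.card Φ.Iso : ℝ) ≤ noInv Φ.Iso Y

/-- BS26 -/
def S26 : Prop := ∃ c : ℝ, 0 < c ∧ ∃ n₀ : ℕ, ∀ (F V : Type) [Field F] [Finite F] [AddCommGroup V] [Module F V]
  [Module.Finite F V] (r : ℕ) (Φ : Frm F V), IsHerm r Φ → n₀ ≤ Module.finrank F V → ∀ Y : Submodule F V, Y ≠ ⊥ →
  Φ.TI Y → c * (Nat.card ↥(Φ.Iso ⊓ slV F V) : ℝ) ≤ noInv (Φ.Iso ⊓ slV F V) Y

/-- BS27 -/
def S27 : Prop := ∃ c : ℝ, 0 < c ∧ ∃ n₀ : ℕ, ∀ (F V : Type) [Field F] [Finite F] [AddCommGroup V] [Module F V]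
  [Module.Finite F V] (Q : QuadraticForm F V), (frmQ Q).Nd → n₀ ≤ Module.finrank F V → ∀ Y : Submodule F V, Y ≠ ⊥ →
  ((frmQ Q).TI Y ∨ ((2 : F) = 0 ∧ ∃ y : V, Q y ≠ 0 ∧ Y = Submodule.span F {y})) →
  c * (Nat.card (E Q) : ℝ) ≤ noInv (E Q) Y

/-- BS28, symplectic -/
def S28s : Prop := ∃ c : ℝ, 0 < c ∧ ∃ n₀ : ℕ, ∀ (F V : Type) [Field F] [Finite F] [AddCommGroup V] [Module F V]
  [Module.Finite F V] (Φ : Frm F V), IsSp Φ → n₀ ≤ Module.finrank F V → ∀ Y : Submodule F V, Y ≠ ⊥ → Y ≠ ⊤ →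
  Φ.NdOn Y → c * (Nat.card Φ.Iso : ℝ) ≤ noInv Φ.Iso Y

/-- BS28, unitary -/
def S28u : Prop := ∃ c : ℝ, 0 < c ∧ ∃ n₀ : ℕ, ∀ (F V : Type) [Field F] [Finite F] [AddCommGroup V] [Module F V]
  [Module.Finite F V] (r : ℕ) (Φ : Frm F V), IsHerm r Φ → n₀ ≤ Module.finrank F V → ∀ Y : Submodule F V, Y ≠ ⊥ →
  Y ≠ ⊤ → Φ.NdOn Y → c * (Nat.card ↥(Φ.Iso ⊓ slV F V) : ℝ) ≤ noInv (Φ.Iso ⊓ slV F V) Y

/-- BS28, orthogonal -/
def S28o : Prop := ∃ c : ℝ, 0 < c ∧ ∃ n₀ : ℕ, ∀ (F V : Type) [Field F] [Finite F] [AddCommGroup V] [Module F V]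
  [Module.Finite F V] (Q : QuadraticForm F V), (frmQ Q).Nd → n₀ ≤ Module.finrank F V → ∀ Y : Submodule F V, Y ≠ ⊥ →
  Y ≠ ⊤ → (frmQ Q).NdOn Y → c * (Nat.card (E Q) : ℝ) ≤ noInv (E Q) Y

/-! ### generation -/

/-- BS30 -/
def S30 : Prop := ∀ (F V : Type) [Field F] [Finite F] [AddCommGroup V] [Module F V] [Module.Finite F V]
  (H : Subgroup (V ≃ₗ[F] V)) (W U : Submodule F V), H ≤ slV F V → IrrG H → IsCompl W U → 3 ≤ Module.finrank F W →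
  HasOn (slV F V) H W U → slV F V ≤ H ∨ ∃ D : Submodule F V, BlkL H D ∧ 3 ≤ Module.finrank F D

/-- BS31 -/
def S31 : Prop := ∀ (F V : Type) [Field F] [Finite F] [AddCommGroup V] [Module F V] [Module.Finite F V]
  (Φ : Frm F V) (H : Subgroup (V ≃ₗ[F] V)) (W U : Submodule F V), IsSp Φ → H ≤ Φ.Iso → IrrG H → Φ.Dec W U →
  4 ≤ Module.finrank F W → HasOn Φ.Iso H W U → Φ.Iso ≤ H ∨ ∃ D : Submodule F V, Blk Φ H D ∧ 4 ≤ Module.finrank F D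

/-- BS32 -/
def S32 : Prop := ∀ (F V : Type) [Field F] [Finite F] [AddCommGroup V] [Module F V] [Module.Finite F V]
  (r : ℕ) (Φ : Frm F V) (H : Subgroup (V ≃ₗ[F] V)) (W U : Submodule F V), IsHerm r Φ → H ≤ Φ.Iso ⊓ slV F V → IrrG H →
  Φ.Dec W U → 4 ≤ Module.finrank F W → HasOn (Φ.Iso ⊓ slV F V) H W U →
  Φ.Iso ⊓ slV F V ≤ H ∨ ∃ D : Submodule F V, Blk Φ H D ∧ 4 ≤ Module.finrank F D

/-- BS33 -/
def S33 : Prop := ∀ (F V : Type) [Field F] [Finite F] [AddCommGroup V] [Module F V] [Module.Finite F V]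
  (Q : QuadraticForm F V) (H : Subgroup (V ≃ₗ[F] V)) (W : Submodule F V), (frmQ Q).Nd → H ≤ E Q → IrrG H →
  (frmQ Q).NdOn W → 8 ≤ Module.finrank F W →
  (∀ u ∈ W, ∀ w ∈ W, Q u = 0 → QuadraticMap.polar Q u w = 0 → H883.Root.Has Q H u w) →
  E Q ≤ H ∨ ∃ D : Submodule F V, Blk (frmQ Q) H D ∧ 8 ≤ Module.finrank F D

/-! ### blocks -/

/-- BS34 -/
def S34 : Prop := ∃ c : ℝ, 0 < c ∧ ∃ n₀ : ℕ, ∀ (F V : Type) [Field F] [Finite F] [AddCommGroup V] [Module F V]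
  [Module.Finite F V], n₀ ≤ Module.finrank F V → ∀ H : Subgroup (V ≃ₗ[F] V), H ≤ slV F V → IrrG H →
  ∀ D : Submodule F V, BlkL H D → 2 ≤ Module.finrank F D → c * (Nat.card (slV F V) : ℝ) ≤ ndV (slV F V) H

/-- BS35, symplectic -/
def S35s : Prop := ∃ c : ℝ, 0 < c ∧ ∃ n₀ : ℕ, ∀ (F V : Type) [Field F] [Finite F] [AddCommGroup V] [Module F V]
  [Module.Finite F V] (Φ : Frm F V), IsSp Φ → n₀ ≤ Module.finrank F V → ∀ H : Subgroup (V ≃ₗ[F] V), H ≤ Φ.Iso → IrrG H →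
  ∀ D : Submodule F V, Blk Φ H D → 2 ≤ Module.finrank F D → c * (Nat.card Φ.Iso : ℝ) ≤ ndV Φ.Iso H

/-- BS35, unitary -/
def S35u : Prop := ∃ c : ℝ, 0 < c ∧ ∃ n₀ : ℕ, ∀ (F V : Type) [Field F] [Finite F] [AddCommGroup V] [Module F V]
  [Module.Finite F V] (r : ℕ) (Φ : Frm F V), IsHerm r Φ → n₀ ≤ Module.finrank F V →
  ∀ H : Subgroup (V ≃ₗ[F] V), H ≤ Φ.Iso ⊓ slV F V → IrrG H →
  ∀ D : Submodule F V, Blk Φ H D → 2 ≤ Module.finrank F D →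
  c * (Nat.card ↥(Φ.Iso ⊓ slV F V) : ℝ) ≤ ndV (Φ.Iso ⊓ slV F V) H

/-- BS35, orthogonal -/
def S35o : Prop := ∃ c : ℝ, 0 < c ∧ ∃ n₀ : ℕ, ∀ (F V : Type) [Field F] [Finite F] [AddCommGroup V] [Module F V]
  [Module.Finite F V] (Q : QuadraticForm F V), (frmQ Q).Nd → n₀ ≤ Module.finrank F V →
  ∀ H : Subgroup (V ≃ₗ[F] V), H ≤ E Q → IrrG H →
  ∀ D : Submodule F V, Blk (frmQ Q) H D → 2 ≤ Module.finrank F D → c * (Nat.card (E Q) : ℝ) ≤ ndV (E Q) H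

end Cfsg.Agent.H847.Bs
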