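import Mathlib
import Cfsg.Agent.H851.Dg.Defs

/-!
# S5733 (uniform lower bound for the proportion of derangements): definitions

* `RB c G` : every proper subgroup `K` of `G` has `c |G| ≤ nd K`;
* `fp K g` : the number of fixed points of `g` on `G ⧸ K`;
* `Inv`, `Irr` : invariant subspaces, irreducible invariant subspaces of a linear automorphism;
* `Frm` : a reflexive sesquilinear form `B` with a function `q` which is additive on orthogonal vectors
  (`q = 0` for symplectic and hermitian spaces, the quadratic form for orthogonal spaces);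
* `Frm.Iso` its isometry group, `Frm.on` restriction to a subspace, `Frm.NdOn`, `Frm.TI`;
* `SG K d` (linear case) and `Frm.SS K d` (spaces with a form): the "large block" elements.
-/

set_option autoImplicit false

namespace Cfsg.Agent.H847.Bs

open Cfsg.Agent.H851.Dg (nd)

/-- every proper subgroup misses at least the proportion `c` of the elements -/
def RB (c : ℝ) (G : Type*) [Group G] : Prop :=
  ∀ K : Subgroup G, K ≠ ⊤ → c * (Nat.card G : ℝ) ≤ nd K

/-- the number of fixed points of `g` on `G ⧸ K` -/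
noncomputable def fp {G : Type*} [Group G] (K : Subgroup G) (g : G) : ℕ :=
  Nat.card {x : G ⧸ K // g • x = x}

section Lin

variable {F V : Type*} [Field F] [AddCommGroup V] [Module F V]

/-- `Y` is `x`-invariant -/
def Inv (x : V ≃ₗ[F] V) (Y : Submodule F V) : Prop := ∀ v ∈ Y, x v ∈ Y

/-- `X` is an irreducible `x`-invariant subspace -/
structure Irr (x : V ≃ₗ[F] V) (X : Submodule F V) : Prop where
  inv : Inv x X
  ne_bot : X ≠ ⊥
  min : ∀ Y ≤ X, Inv x Y → Y = ⊥ ∨ Y = X

/-- the large block elements of `GL(V)`: no invariant subspaces of dimension or codimension at most `K` (except `⊥`, `⊤`),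
irreducible submodules and irreducible quotients have dimension at most `d` -/
def SG (F V : Type*) [Field F] [AddCommGroup V] [Module F V] (K d : ℕ) : Set (V ≃ₗ[F] V) :=
  {x | (∀ Y : Submodule F V, Inv x Y → Y ≠ ⊥ → K < Module.finrank F Y) ∧
    (∀ Y : Submodule F V, Inv x Y → Y ≠ ⊤ → Module.finrank F Y + K < Module.finrank F V) ∧
    (∀ X : Submodule F V, Irr x X → Module.finrank F X ≤ d) ∧
    (∀ Y : Submodule F V, Inv x Y → Y ≠ ⊤ → (∀ Z : Submodule F V, Inv x Z → Y ≤ Z → Z = Y ∨ Z = ⊤) →
      Module.finrank F V ≤ Module.finrank F Y + d)}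

end Lin

/-- A reflexive sesquilinear form `B` (linear in the first variable) with a function `q` which is additive on
orthogonal vectors. -/
structure Frm (F V : Type*) [Field F] [AddCommGroup V] [Module F V] where
  /-- the form -/
  B : V → V → F
  /-- the quadratic form (or `0`) -/
  q : V → F
  /-- the field automorphism -/
  s : F → F
  add_left : ∀ x y z, B (x + y) z = B x z + B y z
  add_right : ∀ x y z, B x (y + z) = B x y + B x z
  smul_left : ∀ (a : F) (x y), B (a • x) y = a * B x y
  smul_right : ∀ (a : F) (x y), B x (a • y) = s a * B x y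
  refl : ∀ x y, B x y = 0 → B y x = 0
  q_add : ∀ x y, B x y = 0 → q (x + y) = q x + q y

namespace Frm

variable {F V : Type*} [Field F] [AddCommGroup V] [Module F V] (Φ : Frm F V)

/-- the isometry group -/
def Iso : Subgroup (V ≃ₗ[F] V) where
  carrier := {g | (∀ x y, Φ.B (g x) (g y) = Φ.B x y) ∧ ∀ x, Φ.q (g x) = Φ.q x}
  mul_mem' := by
    rintro g h ⟨hg1, hg2⟩ ⟨hh1, hh2⟩
    refine ⟨fun x y => ?_, fun x => ?_⟩
    · show Φ.B (g (h x)) (g (h y)) = _
      rw [hg1, hh1]
    · show Φ.q (g (h x)) = _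
      rw [hg2, hh2]
  one_mem' := ⟨fun _ _ => rfl, fun _ => rfl⟩
  inv_mem' := by
    rintro g ⟨hg1, hg2⟩
    have h : ∀ x, g (g⁻¹ x) = x := fun x => g.apply_symm_apply x
    refine ⟨fun x y => ?_, fun x => ?_⟩
    · rw [← hg1 (g⁻¹ x) (g⁻¹ y), h, h]
    · rw [← hg2 (g⁻¹ x), h]

/-- restriction to a subspace -/
def on (D : Submodule F V) : Frm F D where
  B x y := Φ.B x y
  q x := Φ.q x
  s := Φ.s
  add_left x y z := Φ.add_left x y z
  add_right x y z := Φ.add_right x y z
  smul_left a x y := Φ.smul_left a x y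
  smul_right a x y := Φ.smul_right a x y
  refl x y h := Φ.refl x y h
  q_add x y h := Φ.q_add x y h

/-- the form is nondegenerate -/
def Nd : Prop := ∀ x, (∀ y, Φ.B x y = 0) → x = 0

/-- the form is nondegenerate on `D` -/
def NdOn (D : Submodule F V) : Prop := ∀ x ∈ D, (∀ y ∈ D, Φ.B x y = 0) → x = 0

/-- `A` is totally isotropic (totally singular if `q` is the quadratic form) -/
def TI (A : Submodule F V) : Prop := (∀ x ∈ A, ∀ y ∈ A, Φ.B x y = 0) ∧ ∀ x ∈ A, Φ.q x = 0

/-- `D` and `U` are orthogonal -/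
def Orth (D U : Submodule F V) : Prop := ∀ x ∈ D, ∀ y ∈ U, Φ.B x y = 0

/-- `V = D ⟂ U` -/
structure Dec (D U : Submodule F V) : Prop where
  compl : IsCompl D U
  orth : Φ.Orth D U

/-- the large block elements of the isometry group: no nonzero invariant subspace of dimension at most `K`,
the irreducible invariant subspaces have dimension at most `d`, and those of dimension more than `d / 2` are nondegenerate -/
def SS (K d : ℕ) : Set (V ≃ₗ[F] V) :=
  {x | x ∈ Φ.Iso ∧ (∀ Y : Submodule F V, Inv x Y → Y ≠ ⊥ → K < Module.finrank F Y) ∧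
    ∀ X : Submodule F V, Irr x X → Module.finrank F X ≤ d ∧ (d < 2 * Module.finrank F X → Φ.NdOn X)}

/-- blocks of type minus: irreducible elements -/
def Bm : Set (V ≃ₗ[F] V) := {x | x ∈ Φ.Iso ∧ Irr x ⊤}

/-- blocks of type plus: `V = A ⊕ A'` with `A`, `A'` totally isotropic, irreducible and not isomorphic -/
def Bp : Set (V ≃ₗ[F] V) := {x | x ∈ Φ.Iso ∧ ∃ A A' : Submodule F V, IsCompl A A' ∧ Φ.TI A ∧ Φ.TI A' ∧ Irr x A ∧ Irr x A' ∧
  Module.finrank F A = Module.finrank F A' ∧
  ¬ ∃ φ : A ≃ₗ[F] A', ∀ a : A, ∀ ha : x a ∈ A, ((φ ⟨x a, ha⟩ : A') : V) = x (φ a)}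

end Frm

/-- the precision of the block counts -/
noncomputable def ar (j : ℕ) : ℝ := 1 - 16 * (4 / 5 : ℝ) ^ j

end Cfsg.Agent.H847.Bs
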