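import Cfsg.Agent.H847.Bs.Stmts

/-!
# S5733: assembly for the linear, symplectic, unitary, orthogonal groups of large dimension
-/

set_option autoImplicit false

namespace Cfsg.Agent.H847.Bs

open Cfsg.Agent.LieClassical.OrthCore

/-- the linear groups of large dimension -/
def SLBig : Prop := ∃ c : ℝ, 0 < c ∧ ∃ n₀ : ℕ, ∀ (F V : Type) [Field F] [Finite F] [AddCommGroup V] [Module F V]
  [Module.Finite F V], n₀ ≤ Module.finrank F V → ∀ H : Subgroup (V ≃ₗ[F] V), H ≤ slV F V → H ≠ slV F V →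
  c * (Nat.card (slV F V) : ℝ) ≤ ndV (slV F V) H

/-- the symplectic groups of large dimension -/
def SpBig : Prop := ∃ c : ℝ, 0 < c ∧ ∃ n₀ : ℕ, ∀ (F V : Type) [Field F] [Finite F] [AddCommGroup V] [Module F V]
  [Module.Finite F V] (Φ : Frm F V), IsSp Φ → n₀ ≤ Module.finrank F V → ∀ H : Subgroup (V ≃ₗ[F] V),
  H ≤ Φ.Iso → H ≠ Φ.Iso → c * (Nat.card Φ.Iso : ℝ) ≤ ndV Φ.Iso H

/-- the unitary groups of large dimension -/
def SuBig : Prop := ∃ c : ℝ, 0 < c ∧ ∃ n₀ : ℕ, ∀ (F V : Type) [Field F] [Finite F] [AddCommGroup V] [Module F V]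
  [Module.Finite F V] (r : ℕ) (Φ : Frm F V), IsHerm r Φ → n₀ ≤ Module.finrank F V → ∀ H : Subgroup (V ≃ₗ[F] V),
  H ≤ Φ.Iso ⊓ slV F V → H ≠ Φ.Iso ⊓ slV F V →
  c * (Nat.card ↥(Φ.Iso ⊓ slV F V) : ℝ) ≤ ndV (Φ.Iso ⊓ slV F V) H

/-- the orthogonal groups of large dimension -/
def OmBig : Prop := ∃ c : ℝ, 0 < c ∧ ∃ n₀ : ℕ, ∀ (F V : Type) [Field F] [Finite F] [AddCommGroup V] [Module F V]
  [Module.Finite F V] (Q : QuadraticForm F V), (frmQ Q).Nd → n₀ ≤ Module.finrank F V → ∀ H : Subgroup (V ≃ₗ[F] V),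
  H ≤ E Q → H ≠ E Q → c * (Nat.card (E Q) : ℝ) ≤ ndV (E Q) H

section

variable {F V : Type} [Field F] [AddCommGroup V] [Module F V]

/-- if `H` leaves `Y` invariant, then the elements which leave no image of `Y` invariant have no conjugate in `H` -/
theorem noInv_le_ndV [Finite F] [Module.Finite F V] {G H : Subgroup (V ≃ₗ[F] V)} {Y : Submodule F V}
    (hY : ∀ h ∈ H, Inv h Y) : noInv G Y ≤ ndV G H := by
  have : Finite V := Module.finite_of_finite F
  have : Finite (V ≃ₗ[F] V) := Finite.of_injective (fun g => (g : V → V)) DFunLike.coe_injective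
  refine Nat.card_le_card_of_injective (fun x : {x : V ≃ₗ[F] V // x ∈ G ∧ ∀ g ∈ G, ¬ Inv x (Y.map (g : V →ₗ[F] V))} =>
    (⟨x.1, x.2.1, fun g hg hc => ?_⟩ : {x : V ≃ₗ[F] V // x ∈ G ∧ ∀ g ∈ G, g * x * g⁻¹ ∉ H}))
    fun _ _ hab => Subtype.ext (Subtype.mk.inj hab)
  refine x.2.2 g⁻¹ (inv_mem hg) ?_
  rintro _ ⟨y, hy, rfl⟩
  have h1 := hY _ hc y hy
  refine ⟨_, h1, ?_⟩
  show g⁻¹ ((g * x.1 * g⁻¹) y) = x.1 (g⁻¹ y)
  rw [← LinearEquiv.mul_apply, mul_assoc, inv_mul_cancel_left, LinearEquiv.mul_apply]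

/-- linear case: if `H` leaves `Y` invariant -/
theorem noDim_le_ndV [Finite F] [Module.Finite F V] {G H : Subgroup (V ≃ₗ[F] V)} {Y : Submodule F V} {k : ℕ}
    (hk : Module.finrank F Y = k) (hY : ∀ h ∈ H, Inv h Y) :
    Nat.card {x : V ≃ₗ[F] V // x ∈ G ∧ ∀ Y : Submodule F V, Inv x Y → Module.finrank F Y ≠ k} ≤ ndV G H := by
  have : Finite V := Module.finite_of_finite F
  have : Finite (V ≃ₗ[F] V) := Finite.of_injective (fun g => (g : V → V)) DFunLike.coe_injective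
  refine le_trans ?_ (noInv_le_ndV (G := G) hY)
  refine Nat.card_le_card_of_injective (fun x : {x : V ≃ₗ[F] V // x ∈ G ∧
    ∀ Y : Submodule F V, Inv x Y → Module.finrank F Y ≠ k} =>
    (⟨x.1, x.2.1, fun g _ hc => x.2.2 _ hc ?_⟩ :
      {x : V ≃ₗ[F] V // x ∈ G ∧ ∀ g ∈ G, ¬ Inv x (Y.map (g : V →ₗ[F] V))}))
    fun _ _ hab => Subtype.ext (Subtype.mk.inj hab)
  rw [← hk]
  exact LinearEquiv.finrank_map_eq g Y

/-- the radical of a subspace -/
def Frm.radOn (Φ : Frm F V) (Y : Submodule F V) : Submodule F V where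
  carrier := {v | v ∈ Y ∧ ∀ y ∈ Y, Φ.B v y = 0}
  add_mem' := by
    rintro a b ⟨ha, ha'⟩ ⟨hb, hb'⟩
    exact ⟨add_mem ha hb, fun y hy => by rw [Φ.add_left, ha' y hy, hb' y hy, add_zero]⟩
  zero_mem' := ⟨zero_mem _, fun y hy => by
    have := Φ.smul_left 0 0 y
    rwa [zero_smul, zero_mul] at this⟩
  smul_mem' := by
    rintro a v ⟨hv, hv'⟩
    exact ⟨Y.smul_mem a hv, fun y hy => by rw [Φ.smul_left, hv' y hy, mul_zero]⟩

theorem Inv.surj [Module.Finite F V] {x : V ≃ₗ[F] V} {Y : Submodule F V} (h : Inv x Y) : ∀ v ∈ Y, ∃ w ∈ Y, x w = v := by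
  intro v hv
  have h1 : Y.map (x : V →ₗ[F] V) ≤ Y := by
    rintro _ ⟨w, hw, rfl⟩
    exact h w hw
  have h2 : Y.map (x : V →ₗ[F] V) = Y := Submodule.eq_of_le_of_finrank_eq h1 (LinearEquiv.finrank_map_eq x Y)
  rw [← h2] at hv
  obtain ⟨w, hw, rfl⟩ := hv
  exact ⟨w, hw, rfl⟩

theorem inv_radOn [Module.Finite F V] {Φ : Frm F V} {x : V ≃ₗ[F] V} (hx : x ∈ Φ.Iso) {Y : Submodule F V}
    (hY : Inv x Y) : Inv x (Φ.radOn Y) := by
  rintro v ⟨hv, hv'⟩
  refine ⟨hY v hv, fun y hy => ?_⟩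
  obtain ⟨w, hw, rfl⟩ := hY.surj y hy
  rw [hx.1]
  exact hv' w hw

theorem radOn_bot {Φ : Frm F V} {Y : Submodule F V} (h : Φ.radOn Y = ⊥) : Φ.NdOn Y := by
  intro x hx hxy
  have : x ∈ Φ.radOn Y := ⟨hx, hxy⟩
  rwa [h, Submodule.mem_bot] at this

theorem exists_inv_of_not_irr {H : Subgroup (V ≃ₗ[F] V)} (h : ¬ IrrG H) :
    ∃ Y : Submodule F V, (∀ h ∈ H, Inv h Y) ∧ Y ≠ ⊥ ∧ Y ≠ ⊤ := by
  unfold IrrG at h
  push Not at h
  exact h

end

theorem sl_big (h40 : S40a) (h20 : S20) (h24 : S24) (h30 : S30) (h34 : S34) : SLBig := by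
  obtain ⟨c, hc, n, h20⟩ := h20 h40
  obtain ⟨c', hc', n', h24⟩ := h24
  obtain ⟨c'', hc'', n'', h34⟩ := h34
  refine ⟨min c (min c' c''), lt_min hc (lt_min hc' hc''), max n (max n' n''), fun F V _ _ _ _ _ hn H hH hne => ?_⟩
  have hn1 : n ≤ Module.finrank F V := (le_max_left _ _).trans hn
  have hn2 : n' ≤ Module.finrank F V := ((le_max_left _ _).trans (le_max_right _ _)).trans hn
  have hn3 : n'' ≤ Module.finrank F V := ((le_max_right _ _).trans (le_max_right _ _)).trans hn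
  have hN : (0 : ℝ) ≤ Nat.card (slV F V) := Nat.cast_nonneg _
  have hm1 : min c (min c' c'') * (Nat.card (slV F V) : ℝ) ≤ c * Nat.card (slV F V) :=
    mul_le_mul_of_nonneg_right (min_le_left _ _) hN
  have hm2 : min c (min c' c'') * (Nat.card (slV F V) : ℝ) ≤ c' * Nat.card (slV F V) :=
    mul_le_mul_of_nonneg_right ((min_le_right _ _).trans (min_le_left _ _)) hN
  have hm3 : min c (min c' c'') * (Nat.card (slV F V) : ℝ) ≤ c'' * Nat.card (slV F V) :=
    mul_le_mul_of_nonneg_right ((min_le_right _ _).trans (min_le_right _ _)) hN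
  by_contra hcon
  push Not at hcon
  by_cases hirr : IrrG H
  · obtain ⟨W, U, hWU, hW, hon⟩ := h20 F V hn1 H hH (hcon.trans_le hm1)
    rcases h30 F V H W U hH hirr hWU hW.ge hon with h | ⟨D, hD, hD3⟩
    · exact hne (le_antisymm hH h)
    · exact absurd (hcon.trans_le hm3) (not_lt.2 (h34 F V hn3 H hH hirr D hD (by omega)))
  · obtain ⟨Y, hY, hb, ht⟩ := exists_inv_of_not_irr hirr
    have h1 : 1 ≤ Module.finrank F Y := by
      have := Submodule.one_le_finrank_iff.2 hb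
      exact this
    have h2 : Module.finrank F Y < Module.finrank F V := Submodule.finrank_lt ht
    have h3 := h24 F V hn2 _ h1 h2
    have h4 : (Nat.card {x : V ≃ₗ[F] V // x ∈ slV F V ∧ ∀ Y' : Submodule F V, Inv x Y' →
        Module.finrank F Y' ≠ Module.finrank F Y} : ℝ) ≤ ndV (slV F V) H := by
      exact_mod_cast noDim_le_ndV rfl hY
    linarith

theorem sp_big (h40 : S40s) (h21 : S21) (h25 : S25) (h28 : S28s) (h31 : S31) (h35 : S35s) : SpBig := by
  obtain ⟨c, hc, n, h21⟩ := h21 h40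
  obtain ⟨c', hc', n', h25⟩ := h25
  obtain ⟨c'', hc'', n'', h28⟩ := h28
  obtain ⟨c₃, hc₃, n₃, h35⟩ := h35
  refine ⟨min (min c c₃) (min c' c''), lt_min (lt_min hc hc₃) (lt_min hc' hc''), max (max n n₃) (max n' n''),
    fun F V _ _ _ _ _ Φ hΦ hn H hH hne => ?_⟩
  have hN : (0 : ℝ) ≤ Nat.card Φ.Iso := Nat.cast_nonneg _
  have hm : ∀ a, min (min c c₃) (min c' c'') ≤ a → min (min c c₃) (min c' c'') * (Nat.card Φ.Iso : ℝ) ≤
      a * Nat.card Φ.Iso := fun a ha => mul_le_mul_of_nonneg_right ha hN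
  by_contra hcon
  push Not at hcon
  by_cases hirr : IrrG H
  · obtain ⟨W, U, hWU, hW, hon⟩ := h21 F V Φ hΦ (le_trans (by simp) hn) H hH (hcon.trans_le (hm _ (by simp)))
    rcases h31 F V Φ H W U hΦ hH hirr hWU hW.ge hon with h | ⟨D, hD, hD3⟩
    · exact hne (le_antisymm hH h)
    · exact absurd (hcon.trans_le (hm c₃ (by simp)))
        (not_lt.2 (h35 F V Φ hΦ (le_trans (by simp) hn) H hH hirr D hD (by omega)))
  · obtain ⟨Y, hY, hb, ht⟩ := exists_inv_of_not_irr hirr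
    by_cases hr : Φ.radOn Y = ⊥
    · have h3 := h28 F V Φ hΦ (le_trans (by simp) hn) Y hb ht (radOn_bot hr)
      have h4 : (noInv Φ.Iso Y : ℝ) ≤ ndV Φ.Iso H := by exact_mod_cast noInv_le_ndV hY
      have h5 := hm c'' (by simp)
      linarith
    · have h3 := h25 F V Φ hΦ (le_trans (by simp) hn) (Φ.radOn Y) hr
        ⟨fun x hx y hy => hx.2 y hy.1, fun x _ => hΦ.q x⟩
      have h4 : (noInv Φ.Iso (Φ.radOn Y) : ℝ) ≤ ndV Φ.Iso H := by
        exact_mod_cast noInv_le_ndV fun h hh => inv_radOn (hH hh) (hY h hh)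
      have h5 := hm c' (by simp)
      linarith

theorem su_big (h40 : S40u) (h22 : S22) (h26 : S26) (h28 : S28u) (h32 : S32) (h35 : S35u) : SuBig := by
  obtain ⟨c, hc, n, h22⟩ := h22 h40
  obtain ⟨c', hc', n', h26⟩ := h26
  obtain ⟨c'', hc'', n'', h28⟩ := h28
  obtain ⟨c₃, hc₃, n₃, h35⟩ := h35
  refine ⟨min (min c c₃) (min c' c''), lt_min (lt_min hc hc₃) (lt_min hc' hc''), max (max n n₃) (max n' n''),
    fun F V _ _ _ _ _ r Φ hΦ hn H hH hne => ?_⟩
  have hN : (0 : ℝ) ≤ Nat.card ↥(Φ.Iso ⊓ slV F V) := Nat.cast_nonneg _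
  have hm : ∀ a, min (min c c₃) (min c' c'') ≤ a → min (min c c₃) (min c' c'') * (Nat.card ↥(Φ.Iso ⊓ slV F V) : ℝ) ≤
      a * Nat.card ↥(Φ.Iso ⊓ slV F V) := fun a ha => mul_le_mul_of_nonneg_right ha hN
  by_contra hcon
  push Not at hcon
  by_cases hirr : IrrG H
  · obtain ⟨W, U, hWU, hW, hon⟩ := h22 F V r Φ hΦ (le_trans (by simp) hn) H hH (hcon.trans_le (hm _ (by simp)))
    rcases h32 F V r Φ H W U hΦ hH hirr hWU hW.ge hon with h | ⟨D, hD, hD3⟩
    · exact hne (le_antisymm hH h)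
    · exact absurd (hcon.trans_le (hm c₃ (by simp)))
        (not_lt.2 (h35 F V r Φ hΦ (le_trans (by simp) hn) H hH hirr D hD (by omega)))
  · obtain ⟨Y, hY, hb, ht⟩ := exists_inv_of_not_irr hirr
    by_cases hr : Φ.radOn Y = ⊥
    · have h3 := h28 F V r Φ hΦ (le_trans (by simp) hn) Y hb ht (radOn_bot hr)
      have h4 : (noInv (Φ.Iso ⊓ slV F V) Y : ℝ) ≤ ndV (Φ.Iso ⊓ slV F V) H := by exact_mod_cast noInv_le_ndV hY
      have h5 := hm c'' (by simp)
      linarith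
    · have h3 := h26 F V r Φ hΦ (le_trans (by simp) hn) (Φ.radOn Y) hr
        ⟨fun x hx y hy => hx.2 y hy.1, fun x _ => hΦ.q x⟩
      have h4 : (noInv (Φ.Iso ⊓ slV F V) (Φ.radOn Y) : ℝ) ≤ ndV (Φ.Iso ⊓ slV F V) H := by
        exact_mod_cast noInv_le_ndV fun h hh => inv_radOn (hH hh).1 (hY h hh)
      have h5 := hm c' (by simp)
      linarith

section

variable {F V : Type} [Field F] [AddCommGroup V] [Module F V]

/-- the singular vectors of the radical of a subspace -/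
def singRad (Q : QuadraticForm F V) (Y : Submodule F V) : Submodule F V where
  carrier := {v | v ∈ (frmQ Q).radOn Y ∧ Q v = 0}
  add_mem' := by
    rintro a b ⟨ha, ha'⟩ ⟨hb, hb'⟩
    refine ⟨add_mem ha hb, ?_⟩
    have h1 : QuadraticMap.polar Q a b = 0 := ha.2 b hb.1
    rw [Q_add, ha', hb', h1, add_zero, add_zero]
  zero_mem' := ⟨zero_mem _, QuadraticMap.map_zero Q⟩
  smul_mem' := by
    rintro a v ⟨hv, hv'⟩
    refine ⟨Submodule.smul_mem _ a hv, ?_⟩
    rw [QuadraticMap.map_smul, hv', smul_zero]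

theorem inv_singRad [Module.Finite F V] {Q : QuadraticForm F V} {x : V ≃ₗ[F] V} (hx : x ∈ (frmQ Q).Iso)
    {Y : Submodule F V} (hY : Inv x Y) : Inv x (singRad Q Y) := by
  rintro v ⟨hv, hv'⟩
  refine ⟨inv_radOn hx hY v hv, ?_⟩
  have := hx.2 v
  exact this.trans hv'

theorem E_le_Iso (Q : QuadraticForm F V) : E Q ≤ (frmQ Q).Iso := by
  intro g hg
  have h1 : g ∈ O Q := E_le_O hg
  exact ⟨fun x y => polar_map h1 x y, fun x => h1 x⟩

theorem singRad_cases [Finite F] {Q : QuadraticForm F V} {Y : Submodule F V} (h1 : (frmQ Q).radOn Y ≠ ⊥)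
    (h2 : singRad Q Y = ⊥) : (2 : F) = 0 ∧ ∃ y : V, Q y ≠ 0 ∧ (frmQ Q).radOn Y = Submodule.span F {y} := by
  obtain ⟨y, hy, hy0⟩ := Submodule.exists_mem_ne_zero_of_ne_bot h1
  have hQ : Q y ≠ 0 := fun h => hy0 (by
    have h3 : y ∈ singRad Q Y := ⟨hy, h⟩
    rwa [h2, Submodule.mem_bot] at h3)
  have h20 : (2 : F) = 0 := by
    have h3 : QuadraticMap.polar Q y y = 0 := hy.2 y hy.1
    rw [polar_self'] at h3
    exact (mul_eq_zero.1 h3).resolve_right hQ
  refine ⟨h20, y, hQ, le_antisymm (fun v hv => ?_) ?_⟩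
  · -- `Q (v + a y) = 0`
    have hch : CharP F 2 := CharTwo.of_one_ne_zero_of_two_eq_zero one_ne_zero h20
    have hrc : ringChar F = 2 := ringChar.eq F 2 |>.symm ▸ rfl
    obtain ⟨a, ha⟩ := FiniteField.isSquare_of_char_two hrc (-(Q v / Q y))
    have h3 : v + a • y ∈ singRad Q Y := by
      refine ⟨add_mem hv (Submodule.smul_mem _ a hy), ?_⟩
      have h4 : QuadraticMap.polar Q v (a • y) = 0 := by
        rw [QuadraticMap.polar_smul_right]
        have h5 : QuadraticMap.polar Q v y = 0 := hv.2 y hy.1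
        rw [h5, smul_zero]
      rw [Q_add, h4, add_zero, QuadraticMap.map_smul, ← ha, smul_eq_mul, neg_mul, div_mul_cancel₀ _ hQ]
      ring
    rw [h2, Submodule.mem_bot] at h3
    rw [Submodule.mem_span_singleton]
    exact ⟨-a, by rw [neg_smul]; exact (eq_neg_of_add_eq_zero_left h3).symm⟩
  · rw [Submodule.span_le]
    intro z hz
    rw [Set.mem_singleton_iff.1 hz]
    exact hy

end

theorem om_big (h40 : S40o) (h23 : S23) (h27 : S27) (h28 : S28o) (h33 : S33) (h35 : S35o) : OmBig := by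
  obtain ⟨c, hc, n, h23⟩ := h23 h40
  obtain ⟨c', hc', n', h27⟩ := h27
  obtain ⟨c'', hc'', n'', h28⟩ := h28
  obtain ⟨c₃, hc₃, n₃, h35⟩ := h35
  refine ⟨min (min c c₃) (min c' c''), lt_min (lt_min hc hc₃) (lt_min hc' hc''), max (max n n₃) (max n' n''),
    fun F V _ _ _ _ _ Q hQ hn H hH hne => ?_⟩
  have hN : (0 : ℝ) ≤ Nat.card (E Q) := Nat.cast_nonneg _
  have hm : ∀ a, min (min c c₃) (min c' c'') ≤ a → min (min c c₃) (min c' c'') * (Nat.card (E Q) : ℝ) ≤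
      a * Nat.card (E Q) := fun a ha => mul_le_mul_of_nonneg_right ha hN
  by_contra hcon
  push Not at hcon
  by_cases hirr : IrrG H
  · obtain ⟨W, hWn, hW, hon⟩ := h23 F V Q hQ (le_trans (by simp) hn) H hH (hcon.trans_le (hm _ (by simp)))
    rcases h33 F V Q H W hQ hH hirr hWn (by omega) hon with h | ⟨D, hD, hD3⟩
    · exact hne (le_antisymm hH h)
    · exact absurd (hcon.trans_le (hm c₃ (by simp)))
        (not_lt.2 (h35 F V Q hQ (le_trans (by simp) hn) H hH hirr D hD (by omega)))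
  · obtain ⟨Y, hY, hb, ht⟩ := exists_inv_of_not_irr hirr
    have hHI : ∀ h ∈ H, h ∈ (frmQ Q).Iso := fun h hh => E_le_Iso Q (hH hh)
    by_cases hr : (frmQ Q).radOn Y = ⊥
    · have h3 := h28 F V Q hQ (le_trans (by simp) hn) Y hb ht (radOn_bot hr)
      have h4 : (noInv (E Q) Y : ℝ) ≤ ndV (E Q) H := by exact_mod_cast noInv_le_ndV hY
      have h5 := hm c'' (by simp)
      linarith
    · by_cases hr' : singRad Q Y = ⊥
      · have h3 := h27 F V Q hQ (le_trans (by simp) hn) ((frmQ Q).radOn Y) hr (Or.inr (singRad_cases hr hr'))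
        have h4 : (noInv (E Q) ((frmQ Q).radOn Y) : ℝ) ≤ ndV (E Q) H := by
          exact_mod_cast noInv_le_ndV fun h hh => inv_radOn (hHI h hh) (hY h hh)
        have h5 := hm c' (by simp)
        linarith
      · have h3 := h27 F V Q hQ (le_trans (by simp) hn) (singRad Q Y) hr'
          (Or.inl ⟨fun x hx y hy => hx.1.2 y hy.1.1, fun x hx => hx.2⟩)
        have h4 : (noInv (E Q) (singRad Q Y) : ℝ) ≤ ndV (E Q) H := by
          exact_mod_cast noInv_le_ndV fun h hh => inv_singRad (hHI h hh) (hY h hh)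
        have h5 := hm c' (by simp)
        linarith

end Cfsg.Agent.H847.Bs
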